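import Groth.Prelude.Def_EtRam
import Mathlib.FieldTheory.IsSepClosed
import Mathlib.FieldTheory.IntermediateField.Algebraic
import Groth.Agent.Etalg.RamBasic

/-!
# The statement of S7162 and the shape of its refutation
-/

set_option autoImplicit false
universe u

open IsLocalRing EtRam

namespace Groth.Agent.Refuted.S7162

/-- the frozen statement S7162 at universe level `u`, word for word -/
def Stmt : Prop :=
  ∀ (A B K L : Type u) [CommRing A] [IsDomain A]
    [IsDiscreteValuationRing A] [CommRing B] [IsDomain B] [IsDiscreteValuationRing B] [Algebra A B]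
    (_ : Function.Injective (algebraMap A B)) [IsLocalHom (algebraMap A B)]
    [Field K] [Field L] [Algebra A K] [IsFractionRing A K] [Algebra B L] [IsFractionRing B L]
    [Algebra K L] [Algebra A L] [IsScalarTower A K L] [IsScalarTower A B L],
    ∃ (A' B' K' L' : Type u) (_ : CommRing A') (_ : IsDomain A') (_ : IsDiscreteValuationRing A')
      (_ : CommRing B') (_ : IsDomain B') (_ : IsDiscreteValuationRing B') (_ : Field K') (_ : Field L')
      (_ : Algebra A A') (_ : Algebra B B') (_ : Algebra A' B') (_ : Algebra A B')
      (_ : IsScalarTower A B B') (_ : IsScalarTower A A' B')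
      (_ : Algebra A' K') (_ : IsFractionRing A' K') (_ : Algebra B' L') (_ : IsFractionRing B' L')
      (_ : Algebra K' L') (_ : Algebra A' L') (_ : IsScalarTower A' K' L') (_ : IsScalarTower A' B' L')
      (_ : Algebra K K') (_ : Algebra A K') (_ : IsScalarTower A K K') (_ : IsScalarTower A A' K')
      (_ : Algebra L L') (_ : Algebra B L') (_ : IsScalarTower B L L') (_ : IsScalarTower B B' L')
      (hA : IsLocalHom (algebraMap A A')) (hB : IsLocalHom (algebraMap B B')) (_ : IsLocalHom (algebraMap A' B')),
      Function.Injective (algebraMap A A') ∧ Function.Injective (algebraMap B B') ∧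
      Function.Injective (algebraMap A' B') ∧
      Algebra.IsSeparable K K' ∧ Algebra.IsSeparable L L' ∧
      (letI := (IsLocalRing.ResidueField.map (algebraMap A A')).toAlgebra
       IsSepClosure (IsLocalRing.ResidueField A) (IsLocalRing.ResidueField A')) ∧
      (letI := (IsLocalRing.ResidueField.map (algebraMap B B')).toAlgebra
       IsSepClosure (IsLocalRing.ResidueField B) (IsLocalRing.ResidueField B')) ∧
      ((∃ (K₁ : Type u) (_ : Field K₁) (_ : Algebra K' K₁), FiniteDimensional K' K₁ ∧ EtRam.IsSolution B' K' L' K₁) →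
        ∃ (K₁ : Type u) (_ : Field K₁) (_ : Algebra K K₁), FiniteDimensional K K₁ ∧ EtRam.IsSolution B K L K₁) ∧
      ((∃ (K₁ : Type u) (_ : Field K₁) (_ : Algebra K' K₁), FiniteDimensional K' K₁ ∧ EtRam.IsWeakSolution B' K' L' K₁) →
        ∃ (K₁ : Type u) (_ : Field K₁) (_ : Algebra K K₁), FiniteDimensional K K₁ ∧ EtRam.IsWeakSolution B K L K₁) ∧
      ((∃ (K₁ : Type u) (_ : Field K₁) (_ : Algebra K' K₁), FiniteDimensional K' K₁ ∧ Algebra.IsSeparable K' K₁ ∧
          EtRam.IsSolution B' K' L' K₁) →
        ∃ (K₁ : Type u) (_ : Field K₁) (_ : Algebra K K₁), FiniteDimensional K K₁ ∧ Algebra.IsSeparable K K₁ ∧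
          EtRam.IsSolution B K L K₁)

/-- Half (E): every admissible square over `A → B` has a weak solution. -/
def HalfE (A B K L : Type u) [CommRing A] [IsDomain A]
    [IsDiscreteValuationRing A] [CommRing B] [IsDomain B] [IsDiscreteValuationRing B] [Algebra A B]
    [Field K] [Field L] [Algebra A K] [Algebra B L] : Prop :=
  ∀ (A' B' K' L' : Type u) [CommRing A'] [IsDomain A'] [IsDiscreteValuationRing A']
      [CommRing B'] [IsDomain B'] [IsDiscreteValuationRing B'] [Field K'] [Field L']
      [Algebra A A'] [Algebra B B'] [Algebra A' B'] [Algebra A B']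
      [IsScalarTower A B B'] [IsScalarTower A A' B']
      [Algebra A' K'] [IsFractionRing A' K'] [Algebra B' L'] [IsFractionRing B' L']
      [Algebra K' L'] [Algebra A' L'] [IsScalarTower A' K' L'] [IsScalarTower A' B' L']
      [Algebra K K'] [Algebra A K'] [IsScalarTower A K K'] [IsScalarTower A A' K']
      [Algebra L L'] [Algebra B L'] [IsScalarTower B L L'] [IsScalarTower B B' L']
      [IsLocalHom (algebraMap A A')] [IsLocalHom (algebraMap B B')] [IsLocalHom (algebraMap A' B')],
      Function.Injective (algebraMap A A') → Function.Injective (algebraMap B B') →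
      Function.Injective (algebraMap A' B') →
      Algebra.IsSeparable K K' → Algebra.IsSeparable L L' →
      (letI := (IsLocalRing.ResidueField.map (algebraMap A A')).toAlgebra
       IsSepClosure (IsLocalRing.ResidueField A) (IsLocalRing.ResidueField A')) →
      (letI := (IsLocalRing.ResidueField.map (algebraMap B B')).toAlgebra
       IsSepClosure (IsLocalRing.ResidueField B) (IsLocalRing.ResidueField B')) →
      ∃ (K₁ : Type u) (_ : Field K₁) (_ : Algebra K' K₁), FiniteDimensional K' K₁ ∧ IsWeakSolution B' K' L' K₁

/-- Half (II): there is no weak solution for `A → B`. -/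
def HalfII (B K L : Type u) [CommRing B] [IsDomain B] [IsDiscreteValuationRing B]
    [Field K] [Field L] [Algebra K L] [Algebra B L] : Prop :=
  ∀ (K₁ : Type u) [Field K₁] [Algebra K K₁] [FiniteDimensional K K₁], ¬ IsWeakSolution B K L K₁

theorem not_stmt (A B K L : Type u) [CommRing A] [IsDomain A]
    [IsDiscreteValuationRing A] [CommRing B] [IsDomain B] [IsDiscreteValuationRing B] [Algebra A B]
    (hinj : Function.Injective (algebraMap A B)) [IsLocalHom (algebraMap A B)]
    [Field K] [Field L] [Algebra A K] [IsFractionRing A K] [Algebra B L] [IsFractionRing B L]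
    [Algebra K L] [Algebra A L] [IsScalarTower A K L] [IsScalarTower A B L]
    (hE : HalfE A B K L) (hII : HalfII B K L) : ¬ Stmt.{u} := by
  intro h
  obtain ⟨A', B', K', L', i1, i2, i3, i4, i5, i6, i7, i8, i9, i10, i11, i12, i13, i14, i15, i16, i17, i18, i19, i20,
    i21, i22, i23, i24, i25, i26, i27, i28, i29, i30, hA, hB, hAB, h1, h2, h3, h4, h5, h6, h7, -, hw, -⟩ :=
      h A B K L hinj
  obtain ⟨K₁, j1, j2, j3, j4⟩ := hw (hE A' B' K' L' h1 h2 h3 h4 h5 h6 h7)
  exact hII K₁ j4

section subring

variable {A K Ω : Type u} [CommRing A] [IsDomain A] [IsDiscreteValuationRing A] [Field K] [Algebra A K]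
  [IsFractionRing A K] [Field Ω] [Algebra K Ω] [Algebra A Ω] [IsScalarTower A K Ω]

/-- The refutation from a valuation subring `V` of `Ω` dominating `A` and a discretely valued intermediate field `L`,
with `B = V ∩ L`. -/
theorem not_stmt_of_valuationSubring (V : ValuationSubring Ω) (hV : Dominates A (algebraMap A Ω) V)
    (L : IntermediateField K Ω) [IsDiscreteValuationRing (V.comap (algebraMap L Ω))]
    (hE : ∀ [Algebra A (V.comap (algebraMap L Ω))] [IsScalarTower A (V.comap (algebraMap L Ω)) L],
      HalfE A (V.comap (algebraMap L Ω)) K L)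
    (hII : HalfII (V.comap (algebraMap L Ω)) K L) : ¬ Stmt.{u} := by
  have : IsScalarTower A L Ω := IsScalarTower.of_algebraMap_eq fun _ => rfl
  have hmem : ∀ a : A, algebraMap A L a ∈ V.comap (algebraMap L Ω) := fun a => by
    show algebraMap L Ω (algebraMap A L a) ∈ V
    rw [← IsScalarTower.algebraMap_apply A L Ω]
    exact hV.1 a
  let _ : Algebra A (V.comap (algebraMap L Ω)) := ((algebraMap A L).codRestrict _ hmem).toAlgebra
  have : IsScalarTower A (V.comap (algebraMap L Ω)) L := IsScalarTower.of_algebraMap_eq fun _ => rfl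
  have hloc : IsLocalHom (algebraMap A (V.comap (algebraMap L Ω))) := by
    refine (Etalg.RamBasic.isLocalHom_codRestrict_iff (g := algebraMap A L) hmem).2 fun a ha => ?_
    rw [Etalg.RamBasic.valuation_comap_lt_one_iff, ← IsScalarTower.algebraMap_apply A L Ω]
    exact hV.2 a ha
  have hinj : Function.Injective (algebraMap A (V.comap (algebraMap L Ω))) := by
    have h1 : Function.Injective (algebraMap A L) := by
      rw [IsScalarTower.algebraMap_eq A K L]
      exact (algebraMap K L).injective.comp (IsFractionRing.injective A K)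
    exact fun x y hxy => h1 (congrArg Subtype.val hxy)
  exact not_stmt A (V.comap (algebraMap L Ω)) K L hinj hE hII

end subring

end Groth.Agent.Refuted.S7162
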