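import Groth.Agent.Refuted.K284.Laurent2
import Groth.Agent.Refuted.K775.PRank
import Groth.Agent.Refuted.K845.Base
import Mathlib.FieldTheory.Minpoly.IsConjRoot
import Mathlib.Algebra.Polynomial.SpecificDegree

/-!
# The concrete data of the refutation of the frozen statement S7162
-/

set_option autoImplicit false

namespace Groth.Agent.Refuted.K727.Concrete

open IsLocalRing Polynomial EtRam Groth.Agent.Etalg K284

/-- an algebraic closure of `Frac 𝔽₂(t)⟦X⟧` -/
abbrev Om : Type := AlgebraicClosure KK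

instance charP_Om : CharP Om 2 :=
  charP_of_injective_algebraMap (algebraMap KK Om).injective 2

theorem prk : K775.PRank.PRk 2 kk := K775.PRank.prk_ratFunc

theorem exists_V : ∃ V : ValuationSubring Om, Dominates AA (algebraMap AA Om) V := RamBasic.exists_dominates _

theorem exists_al : ∃ al : Om, al ^ 2 + al + 1 = 0 := by
  obtain ⟨x, hx⟩ := IsAlgClosed.exists_root (X ^ 2 + X + 1 : Om[X])
    (by
      have h : (X ^ 2 + X + 1 : Om[X]).degree = 2 := by compute_degree!
      rw [h]; decide)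
  exact ⟨x, by simpa [IsRoot] using hx⟩

theorem al_pow {al : Om} (h : al ^ 2 + al + 1 = 0) : al ^ 2 ^ 2 = al := by
  have h2 : (2 : Om) = 0 := CharTwo.two_eq_zero
  have h1 : al ^ 2 ^ 2 - al = (al ^ 2 + al + 1) * (al ^ 2 - al) + 2 * 0 := by ring
  rw [h, zero_mul, mul_zero, add_zero] at h1
  exact sub_eq_zero.1 h1

theorem minpoly_eq {x : Om} (h : x ^ 2 + x + 1 = 0) : minpoly KK x = X ^ 2 + X + 1 := by
  have hmon : (X ^ 2 + X + 1 : KK[X]).Monic := by monicity!
  refine (minpoly.eq_of_irreducible_of_monic ?_ (by simpa using h) hmon).symm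
  have hdeg : (X ^ 2 + X + 1 : KK[X]).natDegree = 2 := by compute_degree!
  rw [Polynomial.Monic.irreducible_iff_roots_eq_zero_of_degree_le_three hmon (by rw [hdeg]) (by rw [hdeg]; norm_num)]
  rw [Multiset.eq_zero_iff_forall_notMem]
  intro a ha
  have h1 := (mem_roots'.1 ha).2
  exact no_root_KK a (by simpa [IsRoot] using h1)

theorem exists_g {al : Om} (h : al ^ 2 + al + 1 = 0) : ∃ g : Om ≃ₐ[KK] Om, g al ≠ al := by
  have h2 : (al + 1) ^ 2 + (al + 1) + 1 = 0 := by
    have h3 : (al + 1) ^ 2 + (al + 1) + 1 = (al ^ 2 + al + 1) + 2 * (al + 1) := by ring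
    have h4 : (2 : Om) = 0 := CharTwo.two_eq_zero
    rw [h3, h, h4, zero_mul, add_zero]
  have hc : IsConjRoot KK al (al + 1) := by
    rw [IsConjRoot, minpoly_eq h, minpoly_eq h2]
  obtain ⟨g, hg⟩ := isConjRoot_iff_exists_algEquiv.1 hc
  refine ⟨g, fun h5 => ?_⟩
  rw [map_add, map_one, h5] at hg
  exact one_ne_zero (add_eq_left.1 hg)

theorem exists_T (a : Om) : ∃ T : ℕ → Om, T 0 = a ∧ ∀ m, T (m + 1) ^ 2 = T m := by
  choose s hs using fun x : Om => IsAlgClosed.exists_pow_nat_eq x (n := 2) two_pos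
  refine ⟨fun n => Nat.rec a (fun _ x => s x) n, rfl, fun m => hs _⟩

theorem exists_y (a : Om) : ∃ y : Om, y ^ 2 - y = a := by
  obtain ⟨x, hx⟩ := IsAlgClosed.exists_root (X ^ 2 - X - C a : Om[X])
    (by
      have h : (X ^ 2 - X - C a : Om[X]).degree = 2 := by compute_degree!
      rw [h]; decide)
  refine ⟨x, ?_⟩
  have h1 : x ^ 2 - x - a = 0 := by simpa [IsRoot] using hx
  exact sub_eq_zero.1 h1

/-- the elements of `A` are fractions of polynomials in `t` modulo the maximal ideal -/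
theorem exists_frac (φ : ZMod 2 →+* AA) (c : AA) : ∃ f g : (ZMod 2)[X],
    IsUnit (eval₂ φ (algebraMap kk AA tt) g) ∧
      c * eval₂ φ (algebraMap kk AA tt) g - eval₂ φ (algebraMap kk AA tt) f ∈ maximalIdeal AA := by
  obtain ⟨c₀, hc₀⟩ := exists_const c
  have hφ : φ = (algebraMap kk AA).comp (algebraMap (ZMod 2) kk) := Subsingleton.elim _ _
  have hev : ∀ f : (ZMod 2)[X], eval₂ φ (algebraMap kk AA tt) f =
      algebraMap kk AA (algebraMap (ZMod 2)[X] kk f) := by
    intro f
    rw [hφ, ← hom_eval₂]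
    congr 1
    induction f using Polynomial.induction_on' with
    | add p q hp hq => rw [eval₂_add, hp, hq, map_add]
    | monomial n a =>
      rw [eval₂_monomial, ← C_mul_X_pow_eq_monomial, map_mul, map_pow, RatFunc.algebraMap_X, RatFunc.algebraMap_C]
      rfl
  refine ⟨c₀.num, c₀.denom, ?_, ?_⟩
  · rw [hev]
    exact (IsUnit.mk0 _ (RatFunc.algebraMap_ne_zero c₀.denom_ne_zero)).map _
  · rw [hev, hev]
    have h1 : c₀ * algebraMap (ZMod 2)[X] kk c₀.denom = algebraMap _ kk c₀.num :=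
      (div_eq_iff (RatFunc.algebraMap_ne_zero c₀.denom_ne_zero)).mp (RatFunc.num_div_denom c₀) |>.symm
    rw [← h1, map_mul, ← sub_mul]
    exact Ideal.mul_mem_right _ _ hc₀

end Groth.Agent.Refuted.K727.Concrete
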