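import Groth.Agent.Refuted.K284.Laurent2
import Groth.Agent.Refuted.K775.PRank
import Groth.Agent.Refuted.K845.Base
import Mathlib.FieldTheory.Minpoly.IsConjRoot
import Mathlib.Algebra.Polynomial.SpecificDegree

/-!
# The concrete data of the refutation of the frozen statement S7162, in every universe
-/

set_option autoImplicit false
universe u

namespace Groth.Agent.Refuted.K727.ConcreteU

open IsLocalRing Polynomial EtRam Groth.Agent.Etalg K284

/-- `𝔽₂(t)` in the universe `u` -/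
abbrev kU : Type u := ULift.{u} kk

/-- `𝔽₂(t)⟦X⟧` in the universe `u` -/
abbrev AU : Type u := PowerSeries kU.{u}

/-- the fraction field of `𝔽₂(t)⟦X⟧` -/
abbrev KU : Type u := FractionRing AU.{u}

/-- an algebraic closure of `Frac 𝔽₂(t)⟦X⟧` -/
abbrev OU : Type u := AlgebraicClosure KU.{u}

/-- the element `t` -/
noncomputable abbrev tU : kU.{u} := ULift.up tt

instance charP_kU : CharP kU.{u} 2 :=
  charP_of_injective_ringHom (f := (ULift.ringEquiv.symm : kk ≃+* kU.{u}).toRingHom)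
    (ULift.ringEquiv.symm : kk ≃+* kU.{u}).injective 2

instance charP_KU : CharP KU.{u} 2 :=
  charP_of_injective_algebraMap (IsFractionRing.injective AU.{u} KU.{u}) 2

instance charP_OU : CharP OU.{u} 2 :=
  charP_of_injective_algebraMap (algebraMap KU.{u} OU.{u}).injective 2

theorem prk : K775.PRank.PRk 2 kU.{u} := K775.PRank.PRk.uLift K775.PRank.prk_ratFunc

theorem tU_ne_sq (c : kU.{u}) : c ^ 2 ≠ tU := fun h => tt_ne_sq c.down (congrArg ULift.down h)

theorem no_root (x : KU.{u}) : x ^ 2 + x + 1 ≠ 0 := by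
  intro h
  obtain ⟨c, hc⟩ := exists_root_of_exists_root (k := kU.{u}) (X ^ 2 + X + 1) (by monicity!) x (by simpa using h)
  have h1 : c ^ 2 + c + 1 = 0 := by simpa using hc
  exact no_root_kk c.down (congrArg ULift.down h1)

theorem exists_V : ∃ V : ValuationSubring OU.{u}, Dominates AU.{u} (algebraMap AU.{u} OU.{u}) V :=
  RamBasic.exists_dominates _

theorem exists_al : ∃ al : OU.{u}, al ^ 2 + al + 1 = 0 := by
  obtain ⟨x, hx⟩ := IsAlgClosed.exists_root (X ^ 2 + X + 1 : OU.{u}[X])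
    (by
      have h : (X ^ 2 + X + 1 : OU.{u}[X]).degree = 2 := by compute_degree!
      rw [h]; decide)
  exact ⟨x, by simpa [IsRoot] using hx⟩

theorem al_pow {al : OU.{u}} (h : al ^ 2 + al + 1 = 0) : al ^ 2 ^ 2 = al := by
  have h1 : al ^ 2 ^ 2 - al = (al ^ 2 + al + 1) * (al ^ 2 - al) := by ring
  rw [h, zero_mul] at h1
  exact sub_eq_zero.1 h1

theorem minpoly_eq {x : OU.{u}} (h : x ^ 2 + x + 1 = 0) : minpoly KU.{u} x = X ^ 2 + X + 1 := by
  have hmon : (X ^ 2 + X + 1 : KU.{u}[X]).Monic := by monicity!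
  refine (minpoly.eq_of_irreducible_of_monic ?_ (by simpa using h) hmon).symm
  have hdeg : (X ^ 2 + X + 1 : KU.{u}[X]).natDegree = 2 := by compute_degree!
  rw [Polynomial.Monic.irreducible_iff_roots_eq_zero_of_degree_le_three hmon (by rw [hdeg]) (by rw [hdeg]; norm_num)]
  rw [Multiset.eq_zero_iff_forall_notMem]
  intro a ha
  have h1 := (mem_roots'.1 ha).2
  exact no_root a (by simpa [IsRoot] using h1)

theorem exists_g {al : OU.{u}} (h : al ^ 2 + al + 1 = 0) : ∃ g : OU.{u} ≃ₐ[KU.{u}] OU.{u}, g al ≠ al := by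
  have h2 : (al + 1) ^ 2 + (al + 1) + 1 = 0 := by
    have h3 : (al + 1) ^ 2 + (al + 1) + 1 = (al ^ 2 + al + 1) + 2 * (al + 1) := by ring
    have h4 : (2 : OU.{u}) = 0 := CharTwo.two_eq_zero
    rw [h3, h, h4, zero_mul, add_zero]
  have hc : IsConjRoot KU.{u} al (al + 1) := by
    rw [IsConjRoot, minpoly_eq h, minpoly_eq h2]
  obtain ⟨g, hg⟩ := isConjRoot_iff_exists_algEquiv.1 hc
  refine ⟨g, fun h5 => ?_⟩
  rw [map_add, map_one, h5] at hg
  exact one_ne_zero (add_eq_left.1 hg)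

theorem exists_T (a : OU.{u}) : ∃ T : ℕ → OU.{u}, T 0 = a ∧ ∀ m, T (m + 1) ^ 2 = T m := by
  choose s hs using fun x : OU.{u} => IsAlgClosed.exists_pow_nat_eq x (n := 2) two_pos
  refine ⟨fun n => Nat.rec a (fun _ x => s x) n, rfl, fun m => hs _⟩

theorem exists_y (a : OU.{u}) : ∃ y : OU.{u}, y ^ 2 - y = a := by
  obtain ⟨x, hx⟩ := IsAlgClosed.exists_root (X ^ 2 - X - C a : OU.{u}[X])
    (by
      have h : (X ^ 2 - X - C a : OU.{u}[X]).degree = 2 := by compute_degree!
      rw [h]; decide)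
  refine ⟨x, ?_⟩
  have h1 : x ^ 2 - x - a = 0 := by simpa [IsRoot] using hx
  exact sub_eq_zero.1 h1

/-- the elements of `A` are fractions of polynomials in `t` modulo the maximal ideal -/
theorem exists_frac (φ : ZMod 2 →+* AU.{u}) (c : AU.{u}) : ∃ f g : (ZMod 2)[X],
    IsUnit (eval₂ φ (algebraMap kU.{u} AU.{u} tU) g) ∧
      c * eval₂ φ (algebraMap kU.{u} AU.{u} tU) g - eval₂ φ (algebraMap kU.{u} AU.{u} tU) f ∈ maximalIdeal AU.{u} := by
  obtain ⟨c₀, hc₀⟩ := exists_const c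
  let ι : kk →+* kU.{u} := (ULift.ringEquiv.symm : kk ≃+* kU.{u}).toRingHom
  have hφ : φ = ((algebraMap kU.{u} AU.{u}).comp ι).comp (algebraMap (ZMod 2) kk) := Subsingleton.elim _ _
  have hev : ∀ f : (ZMod 2)[X], eval₂ φ (algebraMap kU.{u} AU.{u} tU) f =
      algebraMap kU.{u} AU.{u} (ι (algebraMap (ZMod 2)[X] kk f)) := by
    intro f
    have h1 : algebraMap kU.{u} AU.{u} tU = (algebraMap kU.{u} AU.{u}).comp ι tt := rfl
    rw [hφ, h1, ← hom_eval₂]
    show (algebraMap kU.{u} AU.{u}) (ι _) = _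
    congr 2
    induction f using Polynomial.induction_on' with
    | add p q hp hq => rw [eval₂_add, hp, hq, map_add]
    | monomial n a =>
      rw [eval₂_monomial, ← C_mul_X_pow_eq_monomial, map_mul, map_pow, RatFunc.algebraMap_X, RatFunc.algebraMap_C]
      rfl
  refine ⟨c₀.down.num, c₀.down.denom, ?_, ?_⟩
  · rw [hev]
    exact ((IsUnit.mk0 _ (RatFunc.algebraMap_ne_zero c₀.down.denom_ne_zero)).map ι).map (algebraMap kU.{u} AU.{u})
  · rw [hev, hev]
    have h1 : c₀.down * algebraMap (ZMod 2)[X] kk c₀.down.denom = algebraMap _ kk c₀.down.num :=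
      (div_eq_iff (RatFunc.algebraMap_ne_zero c₀.down.denom_ne_zero)).mp (RatFunc.num_div_denom c₀.down) |>.symm
    have h2 : ι (algebraMap _ kk c₀.down.num) = c₀ * ι (algebraMap (ZMod 2)[X] kk c₀.down.denom) := by
      rw [← h1, map_mul]
      rfl
    rw [h2, map_mul, ← sub_mul]
    exact Ideal.mul_mem_right _ _ hc₀

end Groth.Agent.Refuted.K727.ConcreteU
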