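import Groth.Prelude.Def_EtRam
import Groth.Agent.Etalg.RamDVR
import Groth.Agent.Etalg.RamBasic
import Mathlib.FieldTheory.IntermediateField.Adjoin.Algebra
import Mathlib.LinearAlgebra.TensorProduct.Tower
import Mathlib.RingTheory.TensorProduct.Finite

/-!
# Weak solutions and value groups (towards the refutation of S7162)

If `K₁ / K` is a weak solution for `B` (with fraction field `L`), then for every field `Ω` over `K` which
contains `L` (through `i`) and `K₁` (through `t`), and every valuation subring `V` of `Ω` dominating `B`, the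
value group of the compositum `i(L) t(K₁)` is the value group of `t(K₁)`.
-/

set_option autoImplicit false
universe u

namespace Groth.Agent.Refuted.K727.Dict

open IsLocalRing IntermediateField EtRam

section

variable {B K L K₁ Ω : Type u} [CommRing B] [IsDomain B] [IsDiscreteValuationRing B]
  [Field K] [Field L] [Field K₁] [Field Ω] [Algebra K L] [Algebra K K₁] [Algebra B L] [IsFractionRing B L]
  [Algebra K Ω]

/-- elements of an extended maximal ideal are bounded by elements from below -/
theorem exists_le_of_mem_map {M : Type u} [Field M] (W : ValuationSubring M) (f : K₁ →+* M)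
    (w : W) (hw : w ∈ (maximalIdeal (W.comap f)).map (inclOfComap W f)) :
    ∃ y : K₁, W.valuation (w : M) ≤ W.valuation (f y) ∧ W.valuation (f y) < 1 := by
  induction hw using Submodule.span_induction with
  | mem x hx =>
    obtain ⟨y, hy, rfl⟩ := hx
    refine ⟨y, le_rfl, ?_⟩
    have h1 : inclOfComap W f y ∈ maximalIdeal W := by
      rw [mem_maximalIdeal, mem_nonunits_iff] at *
      exact fun h => hy ((isUnit_map_iff (inclOfComap W f) y).1 h)
    exact (ValuationSubring.valuation_lt_one_iff _ _).1 h1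
  | zero => exact ⟨0, by simp, by simp⟩
  | add x y _ _ hx hy =>
    obtain ⟨a, ha, ha1⟩ := hx
    obtain ⟨b, hb, hb1⟩ := hy
    rcases le_total (W.valuation (f a)) (W.valuation (f b)) with h | h
    · exact ⟨b, (W.valuation.map_add _ _).trans (max_le (ha.trans h) hb), hb1⟩
    · exact ⟨a, (W.valuation.map_add _ _).trans (max_le ha (hb.trans h)), ha1⟩
  | smul a x _ hx =>
    obtain ⟨y, hy, hy1⟩ := hx
    refine ⟨y, ?_, hy1⟩
    rw [smul_eq_mul, MulMemClass.coe_mul, map_mul]
    exact (mul_le_of_le_one_left' (W.valuation_le_one a)).trans hy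

variable [FiniteDimensional K K₁]

theorem adjoin_eq_top (i : L →ₐ[K] Ω) (t : K₁ →ₐ[K] Ω) (M : IntermediateField K Ω)
    (hM : M = i.fieldRange ⊔ t.fieldRange) [Algebra L M] [Algebra K₁ M]
    (hi : ∀ x : L, ((algebraMap L M x : M) : Ω) = i x) (ht : ∀ x : K₁, ((algebraMap K₁ M x : M) : Ω) = t x) :
    Algebra.adjoin L (Set.range (algebraMap K₁ M)) = ⊤ := by
  have : IsScalarTower K L M := IsScalarTower.of_algebraMap_eq fun x => by
    apply Subtype.ext
    rw [hi, AlgHom.commutes]
    rfl
  have : IsScalarTower K K₁ M := IsScalarTower.of_algebraMap_eq fun x => by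
    apply Subtype.ext
    rw [ht, AlgHom.commutes]
    rfl
  have halg : ∀ x ∈ Set.range (algebraMap K₁ M), IsAlgebraic L x := by
    rintro _ ⟨y, rfl⟩
    exact ((Algebra.IsAlgebraic.isAlgebraic (R := K) y).algebraMap (A := M)).extendScalars
      (algebraMap K L).injective
  rw [← adjoin_toSubalgebra_of_isAlgebraic halg, ← IntermediateField.top_toSubalgebra]
  congr 1
  rw [eq_top_iff]
  intro x _
  have h1 : M ≤ ((IntermediateField.adjoin L (Set.range (algebraMap K₁ M))).restrictScalars K).map M.val := by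
    subst hM
    refine sup_le ?_ ?_
    · rintro _ ⟨y, rfl⟩
      exact ⟨algebraMap L _ y, IntermediateField.algebraMap_mem _ y, hi y⟩
    · rintro _ ⟨y, rfl⟩
      exact ⟨algebraMap K₁ _ y, IntermediateField.subset_adjoin _ _ ⟨y, rfl⟩, ht y⟩
  obtain ⟨y, hy, hxy⟩ := h1 x.2
  have : y = x := Subtype.ext hxy
  exact this ▸ hy

/-- the value group of `i(L) t(K₁)` is that of `t(K₁)` -/
theorem exists_valuation_eq (h : IsWeakSolution B K L K₁) (i : L →ₐ[K] Ω) (t : K₁ →ₐ[K] Ω)
    (V : ValuationSubring Ω) (hV : Dominates B ((i : L →+* Ω).comp (algebraMap B L)) V) :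
    ∀ x ∈ i.fieldRange ⊔ t.fieldRange, ∃ y : K₁, V.valuation (t y) = V.valuation x := by
  classical
  let M : IntermediateField K Ω := i.fieldRange ⊔ t.fieldRange
  let i' : L →ₐ[K] M := i.codRestrict M.toSubalgebra fun x => (le_sup_left : i.fieldRange ≤ M) ⟨x, rfl⟩
  let t' : K₁ →ₐ[K] M := t.codRestrict M.toSubalgebra fun x => (le_sup_right : t.fieldRange ≤ M) ⟨x, rfl⟩
  let _ : Algebra L M := i'.toRingHom.toAlgebra
  let _ : Algebra K₁ M := t'.toRingHom.toAlgebra
  have hi : ∀ x : L, ((algebraMap L M x : M) : Ω) = i x := fun _ => rfl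
  have ht : ∀ x : K₁, ((algebraMap K₁ M x : M) : Ω) = t x := fun _ => rfl
  have : IsScalarTower K L M := IsScalarTower.of_algebraMap_eq fun x => (i'.commutes x).symm
  have : IsScalarTower K K₁ M := IsScalarTower.of_algebraMap_eq fun x => (t'.commutes x).symm
  have hadj := adjoin_eq_top i t M rfl hi ht
  let W : ValuationSubring M := V.comap (M.val : M →+* Ω)
  have hW : Dominates B ((algebraMap L M).comp (algebraMap B L)) W :=
    (Etalg.RamBasic.dominates_comp_iff _ _ _).1 hV
  have hval : ∀ x y : M, W.valuation x = W.valuation y ↔ V.valuation (x : Ω) = V.valuation (y : Ω) :=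
    fun x y => Etalg.RamBasic.valuation_comap_eq_iff V _ x y
  -- finiteness
  have hfin : Module.Finite L M := by
    let φ : TensorProduct K L K₁ →ₐ[L] M :=
      Algebra.TensorProduct.lift (Algebra.ofId L M) t' fun _ _ => Commute.all _ _
    have hφ : Function.Surjective φ := by
      rw [← AlgHom.range_eq_top, eq_top_iff, ← hadj, Algebra.adjoin_le_iff]
      rintro _ ⟨y, rfl⟩
      refine ⟨1 ⊗ₜ y, ?_⟩
      simp only [φ, AlgHom.toRingHom_eq_coe, RingHom.coe_coe, Algebra.TensorProduct.lift_tmul, map_one, one_mul]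
      rfl
    exact Module.Finite.of_surjective φ.toLinearMap hφ
  obtain ⟨ρ, hρ0, hρ1, hρ⟩ := Etalg.RamDVR.exists_uniformizer (A := B) (K := L) (F := M) hW
  have hwu := h M hadj W hW
  have hρW : ρ ∈ W := (W.valuation_le_one_iff _).1 hρ1.le
  have hρm : (⟨ρ, hρW⟩ : W) ∈ maximalIdeal W := (ValuationSubring.valuation_lt_one_iff _ _).2 hρ1
  have hρm' : (⟨ρ, hρW⟩ : W) ∈ (maximalIdeal (W.comap (algebraMap K₁ M))).map (inclOfComap W (algebraMap K₁ M)) := by
    have h2 : (maximalIdeal (W.comap (algebraMap K₁ M))).map (inclOfComap W (algebraMap K₁ M)) =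
      maximalIdeal W := hwu
    rw [h2]; exact hρm
  obtain ⟨y, hy1, hy2⟩ := exists_le_of_mem_map W (algebraMap K₁ M) _ hρm'
  have hpos : 0 < W.valuation ρ := zero_lt_iff.2 ((Valuation.ne_zero_iff _).2 hρ0)
  have hanti : StrictAnti (fun n : ℤ => W.valuation ρ ^ n) := zpow_right_strictAnti₀ hpos hρ1
  have hyρ : W.valuation (algebraMap K₁ M y) = W.valuation ρ := by
    have hy0 : algebraMap K₁ M y ≠ 0 := by
      intro h0
      rw [h0, map_zero] at hy1
      exact absurd hy1 (not_le.2 hpos)
    obtain ⟨k, hk⟩ := hρ _ hy0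
    rw [hk] at hy1 hy2 ⊢
    have h1 : k ≤ 1 := by
      by_contra hcon
      rw [not_le] at hcon
      have := hanti hcon
      simp only [zpow_one] at this
      exact absurd hy1 (not_le.2 this)
    have h2 : 0 < k := by
      by_contra hcon
      rw [not_lt] at hcon
      have := hanti.antitone hcon
      simp only [zpow_zero] at this
      exact absurd hy2 (not_lt.2 this)
    have : k = 1 := by omega
    rw [this, zpow_one]
  intro x hx
  by_cases hx0 : x = 0
  · exact ⟨0, by rw [hx0, map_zero, map_zero]⟩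
  · obtain ⟨k, hk⟩ := hρ ⟨x, hx⟩ fun h0 => hx0 (congrArg Subtype.val h0)
    refine ⟨y ^ k, ?_⟩
    have h3 : W.valuation (algebraMap K₁ M (y ^ k)) = W.valuation ⟨x, hx⟩ := by
      rw [map_zpow₀, map_zpow₀, hyρ, hk]
    exact (hval _ _).1 h3

end

end Groth.Agent.Refuted.K727.Dict
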