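import Groth.Agent.Etalg.RamDVR
import Groth.Agent.Etalg.RamBasic

/-!
# `V ∩ L` is a discrete valuation ring if the value group of `L` is generated by one element
-/

set_option autoImplicit false
universe u

namespace Groth.Agent.Refuted.K727.Dvr

open Groth.Agent.Etalg

variable {F Ω : Type u} [Field F] [Field Ω] [Algebra F Ω] (V : ValuationSubring Ω)

theorem isDVR_comap (w : F) (hw0 : w ≠ 0) (hw1 : V.valuation (algebraMap F Ω w) < 1)
    (hw : ∀ x : F, x ≠ 0 → ∃ n : ℤ, V.valuation (algebraMap F Ω x) = V.valuation (algebraMap F Ω w) ^ n) :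
    IsDiscreteValuationRing (V.comap (algebraMap F Ω)) := by
  refine (RamDVR.isDVR_of_uniformizer _ w hw0 ?_ fun x hx => ?_).1
  · rw [RamBasic.valuation_comap_lt_one_iff]
    exact hw1
  · obtain ⟨n, hn⟩ := hw x hx
    refine ⟨n, ?_⟩
    rw [← map_zpow₀, RamBasic.valuation_comap_eq_iff, map_zpow₀, map_zpow₀]
    exact hn

/-- conversely, a uniformizer of `V ∩ F` -/
theorem exists_of_isDVR [IsDiscreteValuationRing (V.comap (algebraMap F Ω))] :
    ∃ w : F, w ≠ 0 ∧ V.valuation (algebraMap F Ω w) < 1 ∧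
      ∀ x : F, x ≠ 0 → ∃ n : ℤ, V.valuation (algebraMap F Ω x) = V.valuation (algebraMap F Ω w) ^ n := by
  let W := V.comap (algebraMap F Ω)
  have h : EtRam.Dominates W ((algebraMap F Ω).comp (algebraMap W F)) V :=
    (RamBasic.dominates_comp_subtype_iff (algebraMap F Ω) W V).2 rfl
  obtain ⟨ϖ, hϖ⟩ := IsDiscreteValuationRing.exists_irreducible W
  refine ⟨ϖ, fun h0 => hϖ.ne_zero (Subtype.ext h0), ?_, fun x hx => ?_⟩
  · exact h.2 ϖ ((IsLocalRing.mem_maximalIdeal _).2 hϖ.not_isUnit)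
  · exact RamDVR.exists_zpow_of_frac (K := F) h hϖ x hx

end Groth.Agent.Refuted.K727.Dvr
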