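import Groth.Agent.Refuted.K845.Base
import Mathlib.FieldTheory.SeparableClosure
import Mathlib.FieldTheory.Finite.Basic

/-!
# Inputs of half (E) of the refutation of the frozen statement S7162

* `isSeparable_of_adjoin`: a field generated by separable elements, in the form needed for `L` over `K(T^(1/p^∞))`;
* `exists_root`: elements of `A` are, modulo the maximal ideal, `p^n`-th powers of elements of `K(T^(1/p^∞))`.
-/

set_option autoImplicit false
universe u

namespace Groth.Agent.Refuted.K727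

open IsLocalRing Polynomial EtRam Groth.Agent.Etalg

/-- If `L = K(S)` (inside `Ω`) and all elements of `S` are separable over the subfield `M₁` of `L`, then `L` is
separable over `M₁`. -/
theorem isSeparable_of_adjoin {K Ω : Type u} [Field K] [Field Ω] [Algebra K Ω] (L : IntermediateField K Ω) (S : Set Ω)
    (hL : L ≤ IntermediateField.adjoin K S) (M₁ : IntermediateField K L) (h : ∀ s ∈ S, IsSeparable M₁ s) :
    Algebra.IsSeparable M₁ L := by
  let Z : IntermediateField K Ω := (separableClosure M₁ Ω).restrictScalars K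
  have hZ : L ≤ Z := by
    refine hL.trans ?_
    rw [IntermediateField.adjoin_le_iff]
    intro s hs
    exact mem_separableClosure_iff.2 (h s hs)
  refine ⟨fun x => ?_⟩
  have h1 : IsSeparable M₁ (algebraMap L Ω x) := mem_separableClosure_iff.1 (hZ x.2)
  exact h1.tower_bot

/-- an Artin–Schreier generator is separable -/
theorem isSeparable_of_artin {M Ω : Type u} [Field M] [Field Ω] [Algebra M Ω] (p : ℕ) [Fact p.Prime] [CharP Ω p]
    (y : Ω) (a : M) (hy : y ^ p - y = algebraMap M Ω a) : IsSeparable M y := by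
  have hM : CharP M p := (algebraMap M Ω).charP (algebraMap M Ω).injective p
  have h1 : (X ^ p - X - C a : M[X]).Separable := by
    have hd : derivative (X ^ p - X - C a : M[X]) = -1 := by
      simp [CharP.cast_eq_zero M[X] p, derivative_X_pow]
    rw [separable_def, hd]
    exact isCoprime_one_right.neg_right
  refine h1.of_dvd (minpoly.dvd M y ?_)
  simp [hy]

theorem eval₂_frob {R : Type*} [CommRing R] (p : ℕ) [Fact p.Prime] (φ : ZMod p →+* R) (f : (ZMod p)[X]) (x : R) :
    eval₂ φ x f ^ p = eval₂ φ (x ^ p) f := by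
  rw [← Polynomial.eval₂_pow, ← ZMod.expand_card f, expand_eq_comp_X_pow, eval₂_comp]
  simp

theorem eval₂_frob_pow {R : Type*} [CommRing R] (p : ℕ) [Fact p.Prime] (φ : ZMod p →+* R) (f : (ZMod p)[X])
    (τ : ℕ → R) (hτ : ∀ n, τ (n + 1) ^ p = τ n) (n : ℕ) : eval₂ φ (τ n) f ^ p ^ n = eval₂ φ (τ 0) f := by
  induction n with
  | zero => simp
  | succ n ih => rw [pow_succ', pow_mul, eval₂_frob, hτ, ih]

theorem eval₂_mem_adjoin {A K L : Type u} [CommRing A] [Field K] [Field L] [Algebra A K] [Algebra K L] [Algebra A L]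
    [IsScalarTower A K L] (p : ℕ) (φ : ZMod p →+* A) (f : (ZMod p)[X]) (τ : ℕ → L) (n : ℕ) :
    eval₂ ((algebraMap A L).comp φ) (τ n) f ∈ IntermediateField.adjoin K (Set.range τ) := by
  rw [eval₂_eq_sum_range]
  refine sum_mem fun i _ => mul_mem ?_ (pow_mem (IntermediateField.subset_adjoin _ _ (Set.mem_range_self n)) i)
  rw [RingHom.comp_apply, IsScalarTower.algebraMap_apply A K L]
  exact IntermediateField.algebraMap_mem _ _

section root

variable {A K Ω : Type u} [CommRing A] [IsDomain A] [IsDiscreteValuationRing A]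
  [Field K] [Algebra A K] [Field Ω] [Algebra K Ω] [Algebra A Ω] [IsScalarTower A K Ω]

/-- `hroot` of half (E) -/
theorem exists_root (p : ℕ) [Fact p.Prime] (V : ValuationSubring Ω) (hV : Dominates A (algebraMap A Ω) V)
    (L : IntermediateField K Ω) [Algebra A (V.comap (algebraMap L Ω))]
    [IsScalarTower A (V.comap (algebraMap L Ω)) L]
    (τ : ℕ → L) (hτ : ∀ n, τ (n + 1) ^ p = τ n) (t : A)
    (hT : V.valuation (algebraMap L Ω (τ 0) - algebraMap A Ω t) < 1) (φ : ZMod p →+* A)
    (c : A) (f g : (ZMod p)[X]) (hg : IsUnit (eval₂ φ t g)) (hfg : c * eval₂ φ t g - eval₂ φ t f ∈ maximalIdeal A)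
    (n : ℕ) :
    ∃ b : V.comap (algebraMap L Ω), algebraMap (V.comap (algebraMap L Ω)) L b ∈
        IntermediateField.adjoin K (Set.range τ) ∧
      b ^ p ^ n - algebraMap A (V.comap (algebraMap L Ω)) c ∈ maximalIdeal (V.comap (algebraMap L Ω)) := by
  have hp : 0 < p := (Fact.out : p.Prime).pos
  have hval1 : V.valuation (algebraMap A Ω (eval₂ φ t g)) = 1 := RamDVR.valuation_eq_one_of_isUnit hV hg
  have hALΩ : ∀ a : A, algebraMap L Ω (algebraMap A L a) = algebraMap A Ω a := fun a => rfl
  -- evaluation in `Ω`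
  have hmapφ : ∀ (h : (ZMod p)[X]) (x : L), algebraMap L Ω (eval₂ ((algebraMap A L).comp φ) x h) =
      eval₂ ((algebraMap A Ω).comp φ) (algebraMap L Ω x) h := by
    intro h x
    rw [hom_eval₂]
    rfl
  have hmapφ' : ∀ (h : (ZMod p)[X]) (x : A), algebraMap A Ω (eval₂ φ x h) =
      eval₂ ((algebraMap A Ω).comp φ) (algebraMap A Ω x) h := by
    intro h x
    rw [hom_eval₂]
  -- integrality
  have hint : ∀ (h : (ZMod p)[X]) (x : Ω), x ∈ V → eval₂ ((algebraMap A Ω).comp φ) x h ∈ V := by
    intro h x hx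
    rw [eval₂_eq_sum_range]
    exact sum_mem fun i _ => mul_mem (hV.1 _) (pow_mem hx i)
  have hclose : ∀ (h : (ZMod p)[X]) (x x' : Ω), x ∈ V → x' ∈ V → V.valuation (x - x') < 1 →
      V.valuation (eval₂ ((algebraMap A Ω).comp φ) x h - eval₂ ((algebraMap A Ω).comp φ) x' h) < 1 := by
    intro h x x' hx hx' hxx
    rw [eval₂_eq_sum_range, eval₂_eq_sum_range, ← Finset.sum_sub_distrib]
    refine Valuation.map_sum_lt _ one_ne_zero fun i _ => ?_
    rw [← mul_sub, map_mul, mul_comm]
    refine mul_lt_one_of_lt_of_le ?_ ((V.valuation_le_one_iff _).2 (hV.1 _))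
    obtain ⟨z, hz⟩ := sub_dvd_pow_sub_pow (⟨x, hx⟩ : V) ⟨x', hx'⟩ i
    have hz' : x ^ i - x' ^ i = (x - x') * z := congrArg Subtype.val hz
    rw [hz', map_mul]
    exact mul_lt_one_of_lt_of_le hxx ((V.valuation_le_one_iff _).2 z.2)
  have htV : algebraMap A Ω t ∈ V := hV.1 t
  have h0V : algebraMap L Ω (τ 0) ∈ V := by
    have h1 := add_mem ((V.valuation_le_one_iff _).1 hT.le) htV
    rwa [sub_add_cancel] at h1
  have hpow : ∀ n, τ n ^ p ^ n = τ 0 := by
    intro n
    induction n with
    | zero => simp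
    | succ n ih => rw [pow_succ', pow_mul, hτ, ih]
  have hnV : ∀ n, algebraMap L Ω (τ n) ∈ V := by
    intro n
    rw [← V.valuation_le_one_iff] at h0V ⊢
    rw [← hpow n, map_pow, map_pow] at h0V
    exact (pow_le_one_iff (pow_pos hp n).ne').1 h0V
  have hgn : V.valuation (algebraMap L Ω (eval₂ ((algebraMap A L).comp φ) (τ n) g)) = 1 := by
    have h1 : V.valuation (algebraMap L Ω (eval₂ ((algebraMap A L).comp φ) (τ 0) g)) = 1 := by
      have h2 := hclose g _ _ h0V htV hT
      rw [← hmapφ, ← hmapφ'] at h2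
      rw [← hval1] at h2
      have h3 := Valuation.map_add_eq_of_lt_left V.valuation h2
      rwa [add_sub_cancel, hval1] at h3
    rw [← eval₂_frob_pow p ((algebraMap A L).comp φ) g τ hτ n, map_pow, map_pow] at h1
    exact (pow_eq_one_iff_of_nonneg zero_le (pow_pos hp n).ne').1 h1
  have hg00 : V.valuation (algebraMap L Ω (eval₂ ((algebraMap A L).comp φ) (τ 0) g)) = 1 := by
    rw [← eval₂_frob_pow p ((algebraMap A L).comp φ) g τ hτ n, map_pow, map_pow, hgn, one_pow]
  have hg0 : eval₂ ((algebraMap A L).comp φ) (τ n) g ≠ 0 := by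
    intro h1
    rw [h1, map_zero, map_zero] at hgn
    exact zero_ne_one hgn
  set b : L := eval₂ ((algebraMap A L).comp φ) (τ n) f / eval₂ ((algebraMap A L).comp φ) (τ n) g with hb
  have hbV : algebraMap L Ω b ∈ V := by
    rw [← V.valuation_le_one_iff, hb, map_div₀, map_div₀, hgn, div_one, V.valuation_le_one_iff, hmapφ]
    exact hint f _ (hnV n)
  refine ⟨⟨b, hbV⟩, ?_, ?_⟩
  · exact div_mem (eval₂_mem_adjoin p φ f τ n) (eval₂_mem_adjoin p φ g τ n)
  · rw [ValuationSubring.valuation_lt_one_iff, RamBasic.valuation_comap_lt_one_iff]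
    have hAB : ((algebraMap A (V.comap (algebraMap L Ω)) c : V.comap (algebraMap L Ω)) : L) = algebraMap A L c :=
      (IsScalarTower.algebraMap_apply A (V.comap (algebraMap L Ω)) L c).symm
    have h1 : (((⟨b, hbV⟩ : V.comap (algebraMap L Ω)) ^ p ^ n - algebraMap A (V.comap (algebraMap L Ω)) c :
        V.comap (algebraMap L Ω)) : L) = b ^ p ^ n - algebraMap A L c := by
      rw [← hAB]
      rfl
    rw [h1]
    have h2 : b ^ p ^ n - algebraMap A L c = (eval₂ ((algebraMap A L).comp φ) (τ 0) f -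
        algebraMap A L c * eval₂ ((algebraMap A L).comp φ) (τ 0) g) / eval₂ ((algebraMap A L).comp φ) (τ 0) g := by
      have h3 : eval₂ ((algebraMap A L).comp φ) (τ 0) g ≠ 0 := by
        rw [← eval₂_frob_pow p ((algebraMap A L).comp φ) g τ hτ n]
        exact pow_ne_zero _ hg0
      rw [hb, div_pow, eval₂_frob_pow p ((algebraMap A L).comp φ) g τ hτ n,
        eval₂_frob_pow p ((algebraMap A L).comp φ) f τ hτ n, sub_div, mul_div_cancel_right₀ _ h3]
    rw [h2, map_div₀, map_div₀, hg00, div_one, map_sub, map_mul, hmapφ, hmapφ, hALΩ]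
    have h4 := hclose f _ _ h0V htV hT
    have h5 := hclose g _ _ h0V htV hT
    have h6 := hV.2 _ hfg
    rw [map_sub, map_mul, hmapφ', hmapφ'] at h6
    set F0 := eval₂ ((algebraMap A Ω).comp φ) (algebraMap L Ω (τ 0)) f
    set G0 := eval₂ ((algebraMap A Ω).comp φ) (algebraMap L Ω (τ 0)) g
    set Ft := eval₂ ((algebraMap A Ω).comp φ) (algebraMap A Ω t) f
    set Gt := eval₂ ((algebraMap A Ω).comp φ) (algebraMap A Ω t) g
    have h7 : F0 - algebraMap A Ω c * G0 = (F0 - Ft) - (algebraMap A Ω c * Gt - Ft) -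
        (G0 - Gt) * algebraMap A Ω c := by ring
    rw [h7]
    refine Valuation.map_sub_lt _ (Valuation.map_sub_lt _ h4 h6) ?_
    rw [map_mul]
    exact mul_lt_one_of_lt_of_le h5 ((V.valuation_le_one_iff _).2 (hV.1 _))

end root

end Groth.Agent.Refuted.K727
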