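import Groth.Agent.Refuted.K727.Feed
import Groth.Agent.Refuted.K727.Stmt
import Groth.Agent.Refuted.K728.TowerFull
import Groth.Agent.EtAlg.K287.HalfE

/-!
# Half (E) for the field `L = K(k^sep)(T^(1/p^∞))(y)` of the refutation of the frozen statement S7162
-/

set_option autoImplicit false
universe u

namespace Groth.Agent.Refuted.K727

open IsLocalRing Polynomial EtRam Groth.Agent.Etalg K728

variable {k A K Ω : Type u} [Field k] [CommRing A] [IsDomain A] [IsDiscreteValuationRing A]
  [Field K] [Field Ω] [Algebra k A] [Algebra k K] [Algebra k Ω] [Algebra A K] [Algebra A Ω] [Algebra K Ω]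
  [IsScalarTower k A K] [IsScalarTower k K Ω] [IsScalarTower k A Ω] [IsScalarTower A K Ω]

variable (k K) in
/-- the field `L = N(y)` -/
noncomputable def fieldL (T : ℕ → Ω) (y : Ω) : IntermediateField K Ω :=
  Tower.N k K T ⊔ IntermediateField.adjoin K {y}

variable (k K) in
theorem N_le_adjoin (T : ℕ → Ω) :
    Tower.N k K T ≤ IntermediateField.adjoin K ((separableClosure k Ω : Set Ω) ∪ Set.range T) := by
  refine iSup_le fun m => ?_
  refine IntermediateField.adjoin.mono _ _ _ ?_
  rintro x (hx | hx)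
  · exact Or.inl hx
  · exact Or.inr ⟨m, by rw [Set.mem_singleton_iff] at hx; exact hx.symm⟩

theorem T_mem_N (T : ℕ → Ω) (m : ℕ) : T m ∈ Tower.N k K T := by
  refine (le_iSup (fun m => Tower.E k K (T m)) m) ?_
  exact IntermediateField.subset_adjoin _ _ (Or.inr rfl)

theorem sep_mem_N (T : ℕ → Ω) {x : Ω} (hx : x ∈ separableClosure k Ω) : x ∈ Tower.N k K T := by
  refine (le_iSup (fun m => Tower.E k K (T m)) 0) ?_
  exact IntermediateField.subset_adjoin _ _ (Or.inl hx)

theorem T_mem (T : ℕ → Ω) (y : Ω) (m : ℕ) : T m ∈ fieldL k K T y :=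
  (le_sup_left : Tower.N k K T ≤ _) (T_mem_N T m)

theorem y_mem (T : ℕ → Ω) (y : Ω) : y ∈ fieldL k K T y :=
  (le_sup_right : IntermediateField.adjoin K {y} ≤ fieldL k K T y) (IntermediateField.mem_adjoin_simple_self K y)

theorem sep_mem (T : ℕ → Ω) (y : Ω) {x : Ω} (hx : x ∈ separableClosure k Ω) : x ∈ fieldL k K T y :=
  (le_sup_left : Tower.N k K T ≤ _) (sep_mem_N T hx)

theorem fieldL_le (T : ℕ → Ω) (y : Ω) :
    fieldL k K T y ≤ IntermediateField.adjoin K ((separableClosure k Ω : Set Ω) ∪ Set.range T ∪ {y}) := by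
  refine sup_le ((N_le_adjoin k K T).trans (IntermediateField.adjoin.mono _ _ _ Set.subset_union_left)) ?_
  exact IntermediateField.adjoin.mono _ _ _ Set.subset_union_right

/-- a root of unity of order prime to `p` (or zero) is separable over the prime field -/
theorem isSeparable_of_pow (p : ℕ) [Fact p.Prime] [CharP Ω p] (r : ℕ) (hr : r ≠ 0) {x : Ω} (hx : x ^ p ^ r = x) :
    IsSeparable k x := by
  have hk : CharP k p := (algebraMap k Ω).charP (algebraMap k Ω).injective p
  have h1 : (X ^ p ^ r - X : k[X]).Separable := by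
    have hd : derivative (X ^ p ^ r - X : k[X]) = -1 := by
      have h2 : ((p ^ r : ℕ) : k[X]) = 0 := by
        rw [Nat.cast_pow, CharP.cast_eq_zero k[X] p, zero_pow hr]
      rw [derivative_sub, derivative_X_pow, derivative_X]
      simp only [map_natCast, h2, zero_mul, zero_sub]
    rw [separable_def, hd]
    exact isCoprime_one_right.neg_right
  refine h1.of_dvd (minpoly.dvd k x ?_)
  simp [hx]

theorem halfE (p : ℕ) [Fact p.Prime] [HenselianLocalRing A] [IsFractionRing A K] [Algebra.IsAlgebraic K Ω]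
    [CharP Ω p] (V : ValuationSubring Ω)
    (hV : Dominates A (algebraMap A Ω) V) (t : k) (φ : ZMod p →+* A)
    (hfrac : ∀ c : A, ∃ f g : (ZMod p)[X], IsUnit (eval₂ φ (algebraMap k A t) g) ∧
      c * eval₂ φ (algebraMap k A t) g - eval₂ φ (algebraMap k A t) f ∈ maximalIdeal A)
    (w : A) (hw : w ∈ maximalIdeal A) (al : Ω) (hal : al ^ p ^ 2 = al) (T : ℕ → Ω)
    (hT0 : T 0 = algebraMap k Ω t + algebraMap A Ω w * al) (hT : ∀ m, T (m + 1) ^ p = T m)
    (y : Ω) (hy : y ^ p - y = T 0 / algebraMap A Ω w ^ p)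
    [IsDiscreteValuationRing (V.comap (algebraMap (fieldL k K T y) Ω))]
    [Algebra A (V.comap (algebraMap (fieldL k K T y) Ω))]
    [IsScalarTower A (V.comap (algebraMap (fieldL k K T y) Ω)) (fieldL k K T y)] :
    Refuted.S7162.HalfE A (V.comap (algebraMap (fieldL k K T y) Ω)) K (fieldL k K T y) := by
  have hcK : CharP K p := (algebraMap K Ω).charP (algebraMap K Ω).injective p
  have halV : al ∈ V := by
    rw [← V.valuation_le_one_iff]
    by_contra hcon
    push Not at hcon
    have h1 : V.valuation al ^ p ^ 2 = V.valuation al := by rw [← map_pow, hal]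
    have h2 : V.valuation al ^ 1 < V.valuation al ^ p ^ 2 :=
      pow_lt_pow_right₀ hcon (Nat.one_lt_pow two_ne_zero (Fact.out : p.Prime).one_lt)
    rw [h1, pow_one] at h2
    exact lt_irrefl _ h2
  have halL : al ∈ fieldL k K T y :=
    sep_mem T y (mem_separableClosure_iff.2 (isSeparable_of_pow p 2 two_ne_zero hal))
  let L := fieldL k K T y
  let τ : ℕ → L := fun n => ⟨T n, T_mem T y n⟩
  have hτ : ∀ n, τ (n + 1) ^ p = τ n := fun n => Subtype.ext (hT n)
  let α : V.comap (algebraMap L Ω) := ⟨⟨al, halL⟩, halV⟩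
  have hα : α ^ p ^ 2 = α := Subtype.ext (Subtype.ext hal)
  have hT' : τ 0 ∈ IntermediateField.adjoin K {algebraMap (V.comap (algebraMap L Ω)) L α} := by
    have h1 : τ 0 = algebraMap K L (algebraMap k K t) + algebraMap K L (algebraMap A K w) *
        algebraMap (V.comap (algebraMap L Ω)) L α := by
      apply Subtype.ext
      show T 0 = algebraMap K Ω (algebraMap k K t) + algebraMap K Ω (algebraMap A K w) * al
      rw [← IsScalarTower.algebraMap_apply, ← IsScalarTower.algebraMap_apply, hT0]
    rw [h1]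
    exact add_mem (IntermediateField.algebraMap_mem _ _)
      (mul_mem (IntermediateField.algebraMap_mem _ _) (IntermediateField.mem_adjoin_simple_self K _))
  intro A' B' K' L' _ _ _ _ _ _ _ _ _ _ _ _ _ _ _ _ _ _ _ _ _ _ _ _ _ _ _ _ _ _ _ _ _ h1 h2 h3 h4 h5 h6 h7
  have : IsSepClosed (ResidueField A') := h6.1
  refine K287.HalfE.exists_weak p A (V.comap (algebraMap L Ω)) K L A' B' K' L' τ hτ 2 two_ne_zero α hα hT' ?_ ?_ h3 h5
  · refine isSeparable_of_adjoin L _ (fieldL_le T y) _ ?_
    rintro s ((hs | ⟨m, rfl⟩) | hs)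
    · have h1 : IsSeparable k s := mem_separableClosure_iff.1 hs
      have h2 : IsSeparable K s := h1.tower_top K
      exact h2.tower_top _
    · let M₁ : IntermediateField K L := IntermediateField.adjoin K (Set.range τ)
      have h1 : τ m ∈ M₁ := IntermediateField.subset_adjoin K _ (Set.mem_range_self m)
      exact isSeparable_algebraMap (K := Ω) (⟨τ m, h1⟩ : M₁)
    · rw [Set.mem_singleton_iff] at hs
      rw [hs]
      let M₁ : IntermediateField K L := IntermediateField.adjoin K (Set.range τ)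
      have h1 : τ 0 ∈ M₁ := IntermediateField.subset_adjoin K _ (Set.mem_range_self 0)
      have h2 : algebraMap K L (algebraMap A K w) ∈ M₁ := IntermediateField.algebraMap_mem _ _
      refine isSeparable_of_artin p y (⟨τ 0, h1⟩ / ⟨_, h2⟩ ^ p : M₁) ?_
      rw [hy]
      show T 0 / algebraMap A Ω w ^ p = T 0 / algebraMap K Ω (algebraMap A K w) ^ p
      rw [← IsScalarTower.algebraMap_apply A K Ω]
  · intro c n
    obtain ⟨f, g, hg, hfg⟩ := hfrac c
    refine exists_root p V hV L τ hτ (algebraMap k A t) ?_ φ c f g hg hfg n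
    show V.valuation (T 0 - algebraMap A Ω (algebraMap k A t)) < 1
    rw [← IsScalarTower.algebraMap_apply k A Ω, hT0, add_sub_cancel_left, map_mul]
    exact mul_lt_one_of_lt_of_le (hV.2 _ hw) ((V.valuation_le_one_iff _).2 halV)

end Groth.Agent.Refuted.K727
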